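import Cfsg.Agent.Mrg.LargeExtra.WN1
import Cfsg.Agent.Mrg.LargeExtra.Wide.Geo
import Cfsg.Agent.LargeExtra.WCEndPSU
import Cfsg.Agent.LargeExtra.WG9
import Cfsg.Agent.LargeExtra.WG10
import Cfsg.Agent.LargeExtra.NineUnitary.HallA
import Cfsg.Agent.LargeExtra.WG7
import Cfsg.Agent.Fischer480.Defs
import Cfsg.Agent.Fischer891.FinalSp
import Cfsg.Agent.S0480U.UModel

section


/-!
# Large extraspecial 2-subgroups, `z` weakly closed in `Q`, any width, all commuting pairs of type U: `P` is a class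
of 3-transpositions (helper888)
-/

set_option autoImplicit false

namespace Cfsg.Agent.LargeExtra.WCIrr

open Cfsg.Agent.Co2Type.Quad Cfsg.Agent.LargeExtra.WC Cfsg.Agent.LargeExtra.Wide

variable {G : Type*} [Group G] {P : Set G} {Q : G → Subgroup G} {p t s : G}

/-- **all commuting pairs of type U: `GeoN`** -/
theorem AllN.geoN [Finite G] (A : AllN P Q) : GeoN P Q where
  conj_mem := A.conj_mem
  exists_conj := A.exists_conj
  large := A.large
  Q_conj := A.Q_conj
  eq_of_mem := A.eq_of_mem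
  mul_notMem := fun p hp t ht hne hc => (A.all p hp t ht hne hc).good.nmem
  line := by
    intro p hp t ht hne hc
    have B := A.toBase
    have l := A.all p hp t ht hne hc
    obtain ⟨a, b, e, ha, hb, he, hnd, hall, hprod⟩ := l.five B
    have hpL : p ∈ Lset Q p t := Or.inl rfl
    have htL : t ∈ Lset Q p t := Or.inr (Or.inl rfl)
    have hmem : ∀ x ∈ [p, t, a, b, e], x ∈ Lset Q p t := by
      intro x hx
      simp only [List.mem_cons, List.not_mem_nil, or_false] at hx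
      rcases hx with rfl | rfl | rfl | rfl | rfl
      · exact hpL
      · exact htL
      · exact ha
      · exact hb
      · exact he
    refine ⟨a, l.L_sub B ha, b, l.L_sub B hb, e, l.L_sub B he, hnd, ?_, ?_, ?_, ?_⟩
    · intro x hx y hy
      exact l.L_comm B (hmem x hx) (hmem y hy)
    · rw [← hprod]
      simp [mul_assoc]
    · intro x hx y hy z hz hxy hxz hyz
      exact l.mul_mem_Q B (hmem x hx) (hmem y hy) (hmem z hz) hxy hxz hyz
    · intro s hs hsp hst
      obtain ⟨h1, h2⟩ := l.mem_of_mul_mem B (A.h128 hp) hs hsp hst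
      have h3 := hall s h1
      simp only [List.mem_cons, List.not_mem_nil, or_false]
      rcases h3 with h | h | h | h | h
      · exact absurd h h2
      · exact Or.inl h
      · exact Or.inr (Or.inl h)
      · exact Or.inr (Or.inr (Or.inl h))
      · exact Or.inr (Or.inr (Or.inr h))
  comm_of := fun p hp t ht s hs htp hsp h => A.comm_of_sq hp ht hs htp hsp h
  ord_three := by
    intro p hp t ht s hs htp hsp hts
    have htp' : t ≠ p := by
      rintro rfl
      exact hts hsp.symm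
    have hsp' : s ≠ p := by
      rintro rfl
      exact hts htp
    exact A.ord_three (A.all p hp t ht htp'.symm htp.symm) (A.all p hp s hs hsp'.symm hsp.symm) hts
  no_tri := by
    intro p hp t ht s hs x hx htp hsp hxp h1 h2 h3 hts
    exact A.no_tri (A.all p hp t ht h1.symm htp.symm) (A.all p hp s hs h2.symm hsp.symm)
      (A.all p hp x hx h3.symm hxp.symm) hts
  polar := by
    intro p hp t ht s hs x hx htp hsp hxp h1 h2 hts hn
    have B := A.toBase
    by_cases hxp' : x = p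
    · exact ⟨t, ht, Or.inl rfl, by rw [hxp']; exact htp⟩
    have c := A.all p hp t ht h1.symm htp.symm
    have c' := A.all p hp s hs h2.symm hsp.symm
    have lx := A.all p hp x hx (Ne.symm hxp') hxp.symm
    have hne : t ≠ s := by
      rintro rfl
      apply hn
      rw [B.sq ht]; exact one_mem _
    have l := A.all t ht s hs hne hts
    have hpn : p ∉ Lset Q t s := by
      intro h
      apply hn
      exact l.mul_mem_Q B (Or.inl rfl) (Or.inr (Or.inl rfl)) h hne h1 h2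
    obtain ⟨r, hr, hrx⟩ := A.polar c c' l hpn lx
    refine ⟨r, l.L_sub B hr, ?_, hrx⟩
    by_cases hrt : r = t
    · exact Or.inl hrt
    · right
      have hrt' : r * t = t * r := l.L_comm B hr (Or.inl rfl)
      exact ⟨hrt', (A.mem_L_iff l (l.L_sub B hr) hrt').1 ⟨hr, hrt⟩⟩

end Cfsg.Agent.LargeExtra.WCIrr

namespace Cfsg.Agent.LargeExtra.Wide

open Cfsg.Agent.Co2Type.Quad Cfsg.Agent.LargeExtra.WC Cfsg.Agent.LargeExtra.WCEnd

universe u

section

variable {G : Type u} [Group G] [Finite G] {P : Set G} {Q : G → Subgroup G}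

theorem GeoN.isThree [IsSimpleGroup G] (hG : ¬ IsMulCommutative G) (hg : GeoN P Q) {z : G} (hz : z ∈ P) :
    Cfsg.IsThreeTranspositionClass P := by
  classical
  have hz2 : orderOf z = 2 := orderOf_eq_prime (by rw [pow_two]; exact hg.sq hz) (hg.ne_one hz)
  -- a commuting pair
  obtain ⟨g, hg1, hg2⟩ := Cfsg.Agent.StandardComponent.AltFinal.exists_conj hG hz2
  have hex : ∃ p ∈ P, ∃ t ∈ P, p ≠ t ∧ Commute p t :=
    ⟨z, hz, g * z * g⁻¹, hg.conj_mem z hz g, hg1.symm, hg2.symm⟩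
  have hcl : Subgroup.closure P = ⊤ := by
    have hn : (Subgroup.closure P).Normal := by
      constructor
      intro n hn g
      induction hn using Subgroup.closure_induction with
      | mem x hx => exact Subgroup.subset_closure (hg.conj_mem x hx g)
      | one => rw [mul_one, mul_inv_cancel]; exact Subgroup.one_mem _
      | mul x y _ _ hx hy =>
        have e : g * (x * y) * g⁻¹ = (g * x * g⁻¹) * (g * y * g⁻¹) := by group
        rw [e]; exact Subgroup.mul_mem _ hx hy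
      | inv x _ hx =>
        have e : g * x⁻¹ * g⁻¹ = (g * x * g⁻¹)⁻¹ := by group
        rw [e]; exact Subgroup.inv_mem _ hx
    rcases hn.eq_bot_or_eq_top with h | h
    · exfalso
      have : z ∈ Subgroup.closure P := Subgroup.subset_closure hz
      rw [h, Subgroup.mem_bot] at this
      exact hg.ne_one hz this
    · exact h
  refine ⟨⟨?_, ?_⟩, ⟨z, hz, ?_⟩, hcl⟩
  · intro d hd
    exact orderOf_eq_prime (by rw [pow_two]; exact hg.sq hd) (hg.ne_one hd)
  · intro d hd e he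
    by_cases hc : Commute d e
    · left
      rw [hc.mul_pow, pow_two, pow_two, hg.sq hd, hg.sq he, one_mul]
    · right
      exact hg.three zStar hex hd he hc
  · ext x
    constructor
    · intro hx
      exact isConj_iff.2 (hg.exists_conj z hz x hx)
    · intro hx
      obtain ⟨c, rfl⟩ := isConj_iff.1 (show IsConj z x from hx)
      exact hg.conj_mem z hz c

end

end Cfsg.Agent.LargeExtra.Wide

end

section


/-!
# Alternating forms over `ZMod 2`: the radical has square index (helper888)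
-/

set_option autoImplicit false

namespace Cfsg.Agent.LargeExtra.WC

variable {V : Type*} [AddCommGroup V] [Module (ZMod 2) V]

section alt

variable (β : V →ₗ[ZMod 2] V →ₗ[ZMod 2] ZMod 2)

/-- the radical of `β` on `N` -/
def rad (N : Submodule (ZMod 2) V) : Submodule (ZMod 2) V where
  carrier := {v | v ∈ N ∧ ∀ u ∈ N, β u v = 0}
  zero_mem' := ⟨N.zero_mem, fun u _ => map_zero _⟩
  add_mem' := by
    rintro a b ⟨h1, h2⟩ ⟨h3, h4⟩
    refine ⟨N.add_mem h1 h3, fun u hu => ?_⟩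
    rw [map_add, h2 u hu, h4 u hu, add_zero]
  smul_mem' := by
    rintro r a ⟨h1, h2⟩
    refine ⟨N.smul_mem r h1, fun u hu => ?_⟩
    rw [map_smul, h2 u hu, smul_zero]

/-- `N ∩ {x, y}^⊥` -/
def sub2 (x y : V) (N : Submodule (ZMod 2) V) : Submodule (ZMod 2) V where
  carrier := {v | v ∈ N ∧ β x v = 0 ∧ β y v = 0}
  zero_mem' := ⟨N.zero_mem, map_zero _, map_zero _⟩
  add_mem' := by
    rintro a b ⟨h1, h2, h3⟩ ⟨h4, h5, h6⟩
    refine ⟨N.add_mem h1 h4, ?_, ?_⟩
    · rw [map_add, h2, h5, add_zero]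
    · rw [map_add, h3, h6, add_zero]
  smul_mem' := by
    rintro r a ⟨h1, h2, h3⟩
    refine ⟨N.smul_mem r h1, ?_, ?_⟩
    · rw [map_smul, h2, smul_zero]
    · rw [map_smul, h3, smul_zero]

variable {β} (alt : ∀ v, β v v = 0)
include alt

theorem alt_symm (v w : V) : β v w = β w v := by
  have h := alt (v + w)
  simp only [map_add, LinearMap.add_apply, alt, zero_add, add_zero] at h
  revert h
  generalize β v w = a
  generalize β w v = c
  revert a c; decide

theorem sub2_proj {x y : V} (hxy : β x y = 1) {N : Submodule (ZMod 2) V} (hx : x ∈ N) (hy : y ∈ N) {v : V}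
    (hv : v ∈ N) : v + β y v • x + β x v • y ∈ sub2 β x y N := by
  have hyx : β y x = 1 := by rw [alt_symm alt]; exact hxy
  have haa : ∀ a : ZMod 2, a + a = 0 := by decide
  refine ⟨N.add_mem (N.add_mem hv (N.smul_mem _ hx)) (N.smul_mem _ hy), ?_, ?_⟩
  · rw [map_add, map_add, map_smul, map_smul, alt, hxy, smul_zero, add_zero, smul_eq_mul, mul_one, haa]
  · rw [map_add, map_add, map_smul, map_smul, alt, hyx, smul_zero, add_zero, smul_eq_mul, mul_one, haa]

theorem card_sub2 [Finite V] {x y : V} (hxy : β x y = 1) {N : Submodule (ZMod 2) V} (hx : x ∈ N) (hy : y ∈ N) :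
    Nat.card N = 4 * Nat.card (sub2 β x y N) := by
  have hyx : β y x = 1 := by rw [alt_symm alt]; exact hxy
  have h1 : Nat.card N = Nat.card (sub2 β x y N × (ZMod 2 × ZMod 2)) := by
    apply Nat.card_congr
    exact
      { toFun := fun v => (⟨(v : V) + β y v • x + β x v • y, sub2_proj alt hxy hx hy v.2⟩, (β y v, β x v))
        invFun := fun u => ⟨(u.1 : V) + u.2.1 • x + u.2.2 • y,
          N.add_mem (N.add_mem u.1.2.1 (N.smul_mem _ hx)) (N.smul_mem _ hy)⟩
        left_inv := by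
          intro v
          apply Subtype.ext
          show (v : V) + β y v • x + β x v • y + β y v • x + β x v • y = v
          have : (v : V) + β y v • x + β x v • y + β y v • x + β x v • y =
              v + (β y v • x + β y v • x) + (β x v • y + β x v • y) := by abel
          rw [this, vadd_self, vadd_self, add_zero, add_zero]
        right_inv := by
          rintro ⟨⟨v, hv, hvx, hvy⟩, a, b⟩
          have e1 : β y (v + a • x + b • y) = a := by
            rw [map_add, map_add, map_smul, map_smul, hvy, hyx, alt, smul_zero, zero_add, add_zero, smul_eq_mul, mul_one]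
          have e2 : β x (v + a • x + b • y) = b := by
            rw [map_add, map_add, map_smul, map_smul, hvx, hxy, alt, smul_zero, zero_add, zero_add, smul_eq_mul, mul_one]
          refine Prod.ext (Subtype.ext ?_) (Prod.ext e1 e2)
          show (v + a • x + b • y) + β y (v + a • x + b • y) • x + β x (v + a • x + b • y) • y = v
          rw [e1, e2]
          have : v + a • x + b • y + a • x + b • y = v + (a • x + a • x) + (b • y + b • y) := by abel
          rw [this, vadd_self, vadd_self, add_zero, add_zero] }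
  rw [h1, Nat.card_prod, Nat.card_prod, Nat.card_zmod]
  ring

theorem rad_sub2 {x y : V} (hxy : β x y = 1) {N : Submodule (ZMod 2) V} (hx : x ∈ N) (hy : y ∈ N) :
    rad β (sub2 β x y N) = rad β N := by
  apply le_antisymm
  · rintro v ⟨⟨h1, h2, h3⟩, h4⟩
    refine ⟨h1, fun u hu => ?_⟩
    have h5 := h4 _ (sub2_proj alt hxy hx hy hu)
    rw [map_add, map_add, map_smul, map_smul, LinearMap.add_apply, LinearMap.add_apply, LinearMap.smul_apply,
      LinearMap.smul_apply, h2, h3, smul_zero, smul_zero, add_zero, add_zero] at h5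
    exact h5
  · rintro v ⟨h1, h2⟩
    exact ⟨⟨h1, h2 x hx, h2 y hy⟩, fun u hu => h2 u hu.1⟩

theorem card_rad [Finite V] (n : ℕ) : ∀ N : Submodule (ZMod 2) V, Nat.card N ≤ n →
    ∃ k : ℕ, Nat.card N = 4 ^ k * Nat.card (rad β N) := by
  induction n with
  | zero =>
    intro N hN
    have := Nat.card_pos (α := N)
    omega
  | succ n ih =>
    intro N hN
    by_cases h : ∀ x ∈ N, ∀ y ∈ N, β x y = 0
    · refine ⟨0, ?_⟩
      have : rad β N = N := by
        apply le_antisymm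
        · exact fun v hv => hv.1
        · exact fun v hv => ⟨hv, fun u hu => h u hu v hv⟩
      rw [this, pow_zero, one_mul]
    · push Not at h
      obtain ⟨x, hx, y, hy, hxy⟩ := h
      have hxy1 : β x y = 1 := by
        rcases zm_cases (β x y) with h | h
        · exact absurd h hxy
        · exact h
      have h1 := card_sub2 alt hxy1 hx hy
      have h2 := Nat.card_pos (α := sub2 β x y N)
      obtain ⟨k, hk⟩ := ih (sub2 β x y N) (by omega)
      refine ⟨k + 1, ?_⟩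
      rw [h1, hk, rad_sub2 alt hxy1 hx hy, pow_succ]
      ring

end alt

namespace QS

variable {S : QS V}

/-- `T` an isometric involution with `[V, T]` totally singular and equal to `C_V(T)`: the dimension of `[V, T]` is
even -/
theorem Inv.card_W [Finite V] {T : V ≃ₗ[ZMod 2] V} (h : S.Inv T) (hq : ∀ v, S.q (T v + v) = 0)
    (hW : S.perp (W T) = W T) : ∃ k : ℕ, Nat.card (W T) = 4 ^ k := by
  let β : V →ₗ[ZMod 2] V →ₗ[ZMod 2] ZMod 2 := S.b.compl₂ (T.toLinearMap + LinearMap.id)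
  have hβ : ∀ v w, β v w = S.b v (T w + w) := fun v w => rfl
  have alt : ∀ v, β v v = 0 := by
    intro v
    rw [hβ, ← h.iso.q_f, hq]
  obtain ⟨k, hk⟩ := card_rad alt (Nat.card (⊤ : Submodule (ZMod 2) V)) ⊤ le_rfl
  have hr : rad β ⊤ = W T := by
    rw [← hW]
    ext v
    rw [← h.fix_iff]
    constructor
    · rintro ⟨-, h1⟩
      apply eq_of_add
      apply S.nondeg
      intro w
      rw [S.b_comm, ← hβ]
      exact h1 w trivial
    · intro h1
      refine ⟨trivial, fun u _ => ?_⟩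
      rw [hβ, h1, vadd_self, map_zero]
  rw [hr] at hk
  have h1 := S.card_perp (W T)
  rw [hW] at h1
  have h2 : Nat.card (⊤ : Submodule (ZMod 2) V) = Nat.card V := Nat.card_congr Submodule.topEquiv.toEquiv
  rw [h2, ← h1] at hk
  exact ⟨k, Nat.eq_of_mul_eq_mul_right Nat.card_pos hk⟩

end QS

end Cfsg.Agent.LargeExtra.WC

end

section


/-!
# Large extraspecial 2-subgroups, `z` weakly closed in `Q`, width at least five: no pairs of type F (helper888)
-/

set_option autoImplicit false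

namespace Cfsg.Agent.LargeExtra.WCIrr

open Cfsg.Agent.Co2Type.Quad Cfsg.Agent.LargeExtra.WC Cfsg.Agent.LargeExtra.NineUnitary.Hall

variable {G : Type*} [Group G] {P : Set G} {Q : G → Subgroup G} {p t : G}

theorem card_Wd' [Finite G] (B : Base P Q) (c : Line P Q p t) : Nat.card (Wd B c.hp t) = 4 := by
  rw [c.Wd_eq B]; exact (c.sing B).card

/-- an element of `Q t` acts trivially on `V_t` -/
theorem ac_triv (B : Base P Q) (ht : t ∈ P) {g : G} (hg : g * t = t * g) (h : g ∈ Q t) (v : (B.large t ht).V) :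
    ac (B.large t ht) g hg v = v := by
  have h1 : (B.large t ht).act ⟨g, Subgroup.mem_centralizer_singleton_iff.2 hg⟩ = 1 := (B.large t ht).act_mem _ h
  show (B.large t ht).act ⟨g, _⟩ v = v
  rw [h1]; rfl

theorem ac_congr (B : Base P Q) (ht : t ∈ P) {g k : G} (hg : g * t = t * g) (hk : k * t = t * k) (h : g = k)
    (v : (B.large t ht).V) : ac (B.large t ht) g hg v = ac (B.large t ht) k hk v := by
  subst h; rfl

/-- three root elements with product `1` on `V_t`: the lines meet -/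
theorem meet_three [Finite G] (B : Base P Q) {s₁ s₂ s₃ : G} (l₁ : Line P Q t s₁)
    (l₂ : Line P Q t s₂) (l₃ : Line P Q t s₃) (h : s₁ * s₂ * s₃ ∈ Q t) (h12 : s₁ * s₂ ∉ Q t) :
    ∃ w : (B.large t l₁.hp).V, w ≠ 0 ∧ w ∈ Wd B l₁.hp s₂ ∧ w ∈ Wd B l₁.hp s₃ := by
  set S := qs (B.large t l₁.good.hp) with hS
  have hc : ∀ {s : G}, Line P Q t s → s * t = t * s := fun l => l.good.com.symm
  have h12c : s₁ * s₂ * t = t * (s₁ * s₂) := by rw [mul_assoc, hc l₂, ← mul_assoc, hc l₁, mul_assoc]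
  have h123c : s₁ * s₂ * s₃ * t = t * (s₁ * s₂ * s₃) := by
    rw [mul_assoc, hc l₃, ← mul_assoc, h12c, mul_assoc]
  have hT3 : ∀ v, Com.T B l₃.good.toCom v = Com.T B l₂.good.toCom (Com.T B l₁.good.toCom v) := by
    intro v
    have h1 := ac_triv B l₁.hp h123c h v
    rw [ac_mul _ _ _ h12c (hc l₃), ac_mul _ _ _ (hc l₁) (hc l₂)] at h1
    have h2 : Com.T B l₁.good.toCom (Com.T B l₂.good.toCom (Com.T B l₃.good.toCom v)) = v := h1
    have h3 := (Com.T_inv B l₂.good.toCom).inv (Com.T B l₃.good.toCom v)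
    have h4 := (Com.T_inv B l₁.good.toCom).inv (Com.T B l₂.good.toCom (Com.T B l₃.good.toCom v))
    rw [h2] at h4
    rw [h4, h3]
  -- `v` fixed by `T₁`, not by `T₂`
  have hex : ∃ v, Com.T B l₁.good.toCom v = v ∧ Com.T B l₂.good.toCom v ≠ v := by
    by_contra hcon
    push Not at hcon
    have h1 : S.perp (QS.W (Com.T B l₁.good.toCom)) ≤ S.perp (QS.W (Com.T B l₂.good.toCom)) := by
      intro v hv
      exact (Com.T_inv B l₂.good.toCom).fix_iff.1 (hcon v ((Com.T_inv B l₁.good.toCom).fix_iff.2 hv))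
    have h2 : QS.W (Com.T B l₂.good.toCom) ≤ QS.W (Com.T B l₁.good.toCom) := by
      intro w hw
      rw [← S.perp_perp (QS.W (Com.T B l₁.good.toCom)), S.mem_perp]
      intro u hu
      rw [S.b_comm]
      exact S.mem_perp.1 (h1 hu) w hw
    have h3 := Line.card_W_eq B l₂ l₁ h2
    exact h12 (Line.eq_of_W B l₁ l₂ h3.symm)
  obtain ⟨v, hv1, hv2⟩ := hex
  have h3v : Com.T B l₃.good.toCom v = Com.T B l₂.good.toCom v := by rw [hT3, hv1]
  refine ⟨Com.T B l₂.good.toCom v + v, fun h0 => hv2 (eq_of_add h0), ?_, ?_⟩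
  · rw [show Wd B l₁.hp s₂ = Wd B l₂.hp s₂ from rfl, l₂.Wd_eq B]
    exact QS.f_mem_W _ _
  · rw [← h3v, show Wd B l₁.hp s₃ = Wd B l₃.hp s₃ from rfl, l₃.Wd_eq B]
    exact QS.f_mem_W _ _

/-- three subspaces of order four whose sum has at least `64` elements are independent -/
theorem indep_of_card {V : Type*} [AddCommGroup V] [Module (ZMod 2) V] [Finite V] {A A' A'' : Submodule (ZMod 2) V}
    (hA : Nat.card A = 4) (hA' : Nat.card A' = 4) (hA'' : Nat.card A'' = 4) {W : Submodule (ZMod 2) V}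
    (hW : W ≤ A ⊔ A' ⊔ A'') (h64 : 64 ≤ Nat.card W) {a a' a'' : V} (ha : a ∈ A) (ha' : a' ∈ A') (ha'' : a'' ∈ A'')
    (h : a + a' + a'' = 0) : a = 0 ∧ a' = 0 ∧ a'' = 0 := by
  let f : (A × A') × A'' → ↥(A ⊔ A' ⊔ A'') := fun x =>
    ⟨(x.1.1 : V) + x.1.2 + x.2, Submodule.add_mem_sup (Submodule.add_mem_sup x.1.1.2 x.1.2.2) x.2.2⟩
  have hf : Function.Surjective f := by
    rintro ⟨v, hv⟩
    obtain ⟨u, hu, c, hc, rfl⟩ := Submodule.mem_sup.1 hv
    obtain ⟨a, ha, b, hb, rfl⟩ := Submodule.mem_sup.1 hu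
    exact ⟨((⟨a, ha⟩, ⟨b, hb⟩), ⟨c, hc⟩), rfl⟩
  have h1 : Nat.card ((A × A') × A'') = 64 := by
    rw [Nat.card_prod, Nat.card_prod, hA, hA', hA'']
  have h2 : Nat.card W ≤ Nat.card ↥(A ⊔ A' ⊔ A'') :=
    Nat.card_le_card_of_injective (Submodule.inclusion hW) (Submodule.inclusion_injective _)
  have h3 := hf.bijective_of_nat_card_le (by rw [h1]; exact h64.trans h2)
  have h4 : f ((⟨a, ha⟩, ⟨a', ha'⟩), ⟨a'', ha''⟩) = f ((0, 0), 0) := by
    apply Subtype.ext
    show a + a' + a'' = 0 + 0 + 0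
    rw [h, add_zero, add_zero]
  have h5 := h3.1 h4
  refine ⟨congrArg (fun x => (x.1.1 : V)) h5, congrArg (fun x => (x.1.2 : V)) h5, congrArg (fun x => (x.2 : V)) h5⟩

/-- a line cannot meet three independent lines -/
theorem false_of_meet {V : Type*} [AddCommGroup V] [Module (ZMod 2) V] {A A' A'' : Submodule (ZMod 2) V}
    (hind : ∀ a ∈ A, ∀ a' ∈ A', ∀ a'' ∈ A'', a + a' + a'' = 0 → a = 0 ∧ a' = 0 ∧ a'' = 0)
    {M : Submodule (ZMod 2) V} (hM : Nat.card M = 4) {a a' a'' : V} (ha : a ∈ A) (ha' : a' ∈ A') (ha'' : a'' ∈ A'')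
    (haM : a ∈ M) (haM' : a' ∈ M) (haM'' : a'' ∈ M) (h0 : a ≠ 0) (h0' : a' ≠ 0) (h0'' : a'' ≠ 0) : False := by
  have h1 : a ≠ a' := by
    rintro rfl
    exact h0 (hind a ha a ha' 0 A''.zero_mem (by rw [vadd_self, add_zero])).1
  rcases QS.four hM haM haM' haM'' h0 h0' h1 with h | h | h | h
  · exact h0'' h
  · exact h0 (hind a ha 0 A'.zero_mem a'' ha'' (by rw [h, add_zero, vadd_self])).1
  · exact h0' (hind 0 A.zero_mem a' ha' a'' ha'' (by rw [h, zero_add, vadd_self])).2.1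
  · exact h0 (hind a ha a' ha' a'' ha'' (by rw [h, vadd_self])).1

/-- lines from elements of `Q p`: the U-lines of `x` and `y` meet if `x y` is also a root element -/
theorem meetR' [Finite G] (B : Base P Q) {x y : G} (hyn : y ∉ Q t)
    (hxt : t * x = x * t) (hyt : t * y = y * t) (hxy : x * y = y * x) (hx2 : x * x = 1) (hy2 : y * y = 1)
    (lx : Line P Q t (t * x)) (ly : Line P Q t (t * y)) (lxy : Line P Q t (t * (x * y))) :
    ∃ w : (B.large t lx.hp).V, w ≠ 0 ∧ w ∈ Wd B lx.hp (t * x) ∧ w ∈ Wd B lx.hp (t * y) := by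
  have htt := B.sq lx.hp
  refine meet_three B lxy lx ly ?_ ?_
  · have e : t * (x * y) * (t * x) * (t * y) = t := by
      calc t * (x * y) * (t * x) * (t * y) = t * x * (y * t) * x * t * y := by group
        _ = t * x * t * (y * x) * t * y := by rw [← hyt]; group
        _ = t * (x * t) * x * (y * t) * y := by rw [← hxy]; group
        _ = (t * t) * x * x * t * (y * y) := by rw [← hxt, ← hyt]; group
        _ = (x * x) * t := by rw [htt, hy2]; group
        _ = t := by rw [hx2, one_mul]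
    rw [e]
    exact (B.large t lx.hp).z_mem
  · intro h
    have e : t * (x * y) * (t * x) = y := by
      calc t * (x * y) * (t * x) = t * x * (y * t) * x := by group
        _ = t * (x * t) * y * x := by rw [← hyt]; group
        _ = (t * t) * x * (y * x) := by rw [← hxt]; group
        _ = x * (x * y) := by rw [htt, ← hxy]; group
        _ = (x * x) * y := by group
        _ = y := by rw [hx2, one_mul]
    rw [e] at h
    exact hyn h

/-- the case `Q p ∩ Q t = 1` -/
theorem meetR [Finite G] (B : Base P Q) (hD1 : ∀ d ∈ Q p, d ∈ Q t → d = 1) {x y : G} (hy : y ∈ Q p)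
    (hxt : t * x = x * t) (hyt : t * y = y * t) (hxy : x * y = y * x) (hx2 : x * x = 1) (hy2 : y * y = 1)
    (lx : Line P Q t (t * x)) (ly : Line P Q t (t * y)) (lxy : Line P Q t (t * (x * y))) :
    ∃ w : (B.large t lx.hp).V, w ≠ 0 ∧ w ∈ Wd B lx.hp (t * x) ∧ w ∈ Wd B lx.hp (t * y) :=
  meetR' B (fun h => ly.ne (by rw [hD1 y hy h, mul_one])) hxt hyt hxy hx2 hy2 lx ly lxy

section F

variable (B : Base P Q) (c : Good P p t)
include B c

theorem Good.nn_comm_t {x : G} (hx : x ∈ Q p) : t * (t * x * t⁻¹ * x⁻¹) = (t * x * t⁻¹ * x⁻¹) * t := by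
  have h1 := Com.inv_aux B c.toCom (x := x)
  rw [inv_eq_of_mul_eq_one_left (c.sq_comm B hx)] at h1
  exact mul_inv_eq_iff_eq_mul.1 h1

omit B c in
theorem nn_mul {x y : G} : t * (x * y) * t⁻¹ * (x * y)⁻¹ = (t * x * t⁻¹ * x⁻¹) * (x * (t * y * t⁻¹ * y⁻¹) * x⁻¹) := by
  group

omit B c in
theorem nn_mul_of_comm {x y : G} (h : x * (t * y * t⁻¹ * y⁻¹) = (t * y * t⁻¹ * y⁻¹) * x) :
    t * (x * y) * t⁻¹ * (x * y)⁻¹ = (t * x * t⁻¹ * x⁻¹) * (t * y * t⁻¹ * y⁻¹) := by
  rw [nn_mul, h, mul_inv_cancel_right]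

theorem Good.nn_mul_of_ncomm {x y : G} (hx : x ∈ Q p) (hy : y ∈ Q p)
    (h : x * (t * y * t⁻¹ * y⁻¹) ≠ (t * y * t⁻¹ * y⁻¹) * x) :
    t * (x * y) * t⁻¹ * (x * y)⁻¹ = (t * x * t⁻¹ * x⁻¹) * ((t * y * t⁻¹ * y⁻¹) * p) := by
  rw [nn_mul, ((B.large p c.hp).comm x hx _ (Com.u_mem B c.toCom hy)).resolve_left h]
  congr 1
  have hxp : x * p = p * x := (B.large p c.hp).comm_z x hx
  calc (t * y * t⁻¹ * y⁻¹) * x * p * x⁻¹ = (t * y * t⁻¹ * y⁻¹) * (x * p) * x⁻¹ := by group
    _ = (t * y * t⁻¹ * y⁻¹) * p := by rw [hxp]; group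

theorem Good.comm_nn_iff {x y : G} (hx : x ∈ Q p) (hy : y ∈ Q p) :
    x * (t * y * t⁻¹ * y⁻¹) = (t * y * t⁻¹ * y⁻¹) * x ↔ y * (t * x * t⁻¹ * x⁻¹) = (t * x * t⁻¹ * x⁻¹) * y := by
  have key : ∀ {x y : G} (hx : x ∈ Q p) (hy : y ∈ Q p), x * (t * y * t⁻¹ * y⁻¹) = (t * y * t⁻¹ * y⁻¹) * x ↔
      (qs (B.large p c.hp)).b ((B.large p c.hp).pr ⟨x, hx⟩)
        (Com.T B c.toCom ((B.large p c.hp).pr ⟨y, hy⟩) + (B.large p c.hp).pr ⟨y, hy⟩) = 0 := by
    intro x y hx hy
    rw [Com.T, ac_add]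
    exact ((B.large p c.hp).b_pr ⟨x, hx⟩ ⟨t * y * t⁻¹ * y⁻¹, Com.u_mem B c.toCom hy⟩).symm
  rw [key hx hy, key hy hx, ← (Com.T_inv B c.toCom).adj, QS.b_comm]

theorem Good.comm_nn_self {x : G} (hx : x ∈ Q p) : x * (t * x * t⁻¹ * x⁻¹) = (t * x * t⁻¹ * x⁻¹) * x := by
  have h1 := (Com.T_inv B c.toCom).iso.q_f ((B.large p c.hp).pr ⟨x, hx⟩)
  have h2 : (qs (B.large p c.hp)).q (Com.T B c.toCom ((B.large p c.hp).pr ⟨x, hx⟩) +
      (B.large p c.hp).pr ⟨x, hx⟩) = 0 := c.q_W B (QS.f_mem_W _ _)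
  rw [h2, Com.T, ac_add] at h1
  exact ((B.large p c.hp).b_pr _ _).1 h1.symm

end F

/-- **No pairs of type F** if `|Q| ≥ 2 ^ 11`. -/
theorem TypeF.false_of_big [Finite G] (B : Base P Q)
    (hbig : ∀ p (hp : p ∈ P), 1024 ≤ Nat.card (B.large p hp).V) (c : Good P p t) (f : TypeF Q p t) : False := by
  have h64 : ∀ p (hp : p ∈ P), 64 ≤ Nat.card (B.large p hp).V := fun p hp => by
    have := hbig p hp
    omega
  set S := qs (B.large p c.hp) with hS
  have hpp := B.sq c.hp
  have htt := B.sq c.ht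
  have hD1 : ∀ d ∈ Q p, d ∈ Q t → d = 1 := fun d h1 h2 => TypeF.eq_one B h64 c f h1 h2
  -- all `(t, t^q)` are lines
  have hline : ∀ q ∈ Q p, t * q ≠ q * t → Line P Q t (t * (t * q * t⁻¹ * q⁻¹)) := by
    intro q hq hqt
    rw [← Com.conj_eq B c.toCom q]
    obtain ⟨c', h1⟩ := shift_q B c f hq (fun d h1 h2 => by rw [hD1 d h1 h2]; group) hqt
    rcases c'.dichotomy B (h64 t c.ht) with hU | hF
    · exact line_of_typeU B c' hU
    · exfalso
      have h2 := Nat.card_pos (α := ↥(Q p ⊓ Q t))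
      obtain ⟨d, hd, hd1⟩ := exists_ne_one (by omega : 1 < Nat.card ↥(Q t ⊓ Q (q * t * q⁻¹)))
      obtain ⟨h3, h4⟩ := Subgroup.mem_inf.1 hd
      exact hd1 (TypeF.eq_one B h64 c' hF h3 h4)
  have hne1 : ∀ q, t * q * t⁻¹ * q⁻¹ ≠ 1 → t * q ≠ q * t := by
    intro q h h1
    apply h
    rw [h1]; group
  have hQn : ∀ {q}, q ∈ Q p → t * q * t⁻¹ * q⁻¹ ∈ Q p := fun hq => Com.u_mem B c.toCom hq
  have hcomm : ∀ {x y}, x ∈ Q p → y ∈ Q p → (t * x * t⁻¹ * x⁻¹) * (t * y * t⁻¹ * y⁻¹) =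
      (t * y * t⁻¹ * y⁻¹) * (t * x * t⁻¹ * x⁻¹) := fun hx hy =>
    f.comm _ (hQn hx) _ (hQn hy) (c.nn_comm_t B hx) (c.nn_comm_t B hy)
  have hpc : ∀ {x}, x ∈ Q p → x * p = p * x := fun hx => (B.large p c.hp).comm_z _ hx
  -- choice of `q₁'`, `q₁`
  obtain ⟨v', hv'⟩ := Com.T_ne B c.toCom
  obtain ⟨v, hv⟩ : ∃ v, S.b v (Com.T B c.toCom v' + v') ≠ 0 := by
    by_contra hcon
    push Not at hcon
    apply hv'
    apply eq_of_add
    apply S.nondeg
    intro w
    rw [S.b_comm]; exact hcon w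
  obtain ⟨q', hq', rfl⟩ := pr_surj _ v'
  obtain ⟨q, hq, rfl⟩ := pr_surj _ v
  have hqq' : q * (t * q' * t⁻¹ * q'⁻¹) ≠ (t * q' * t⁻¹ * q'⁻¹) * q := by
    intro h
    apply hv
    rw [Com.T, ac_add]
    exact ((B.large p c.hp).b_pr _ _).2 h
  -- `n`, `n'`
  obtain ⟨n, hn⟩ : ∃ n, n = t * q * t⁻¹ * q⁻¹ := ⟨_, rfl⟩
  obtain ⟨n', hn'⟩ : ∃ n', n' = t * q' * t⁻¹ * q'⁻¹ := ⟨_, rfl⟩
  have hnQ : n ∈ Q p := by rw [hn]; exact hQn hq
  have hnQ' : n' ∈ Q p := by rw [hn']; exact hQn hq'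
  have hnt : t * n = n * t := by rw [hn]; exact c.nn_comm_t B hq
  have hnt' : t * n' = n' * t := by rw [hn']; exact c.nn_comm_t B hq'
  have hn2 : n * n = 1 := by rw [hn]; exact c.sq_comm B hq
  have hn2' : n' * n' = 1 := by rw [hn']; exact c.sq_comm B hq'
  have hnn' : n * n' = n' * n := by rw [hn, hn']; exact hcomm hq hq'
  have hqn' : q * n' ≠ n' * q := by rw [hn']; exact hqq'
  have hq'n : q' * n ≠ n * q' := by
    rw [hn]
    exact fun h => hqq' ((c.comm_nn_iff B hq hq').2 h)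
  have hqn : q * n = n * q := by rw [hn]; exact c.comm_nn_self B hq
  have hn'1 : n' ≠ 1 := by
    intro h
    apply hqn'
    rw [h]; group
  have hn1 : n ≠ 1 := by
    intro h
    apply hq'n
    rw [h]; group
  have hn'' : t * (q * q') * t⁻¹ * (q * q')⁻¹ = n * (n' * p) := by
    rw [hn, hn']; exact c.nn_mul_of_ncomm B hq hq' hqq'
  have hn''Q : n * (n' * p) ∈ Q p := mul_mem hnQ (mul_mem hnQ' (B.large p c.hp).z_mem)
  have hn''1 : n * (n' * p) ≠ 1 := by
    intro h
    apply hqn'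
    have h1 : n' * p = n := by
      calc n' * p = (n * n) * (n' * p) := by rw [hn2, one_mul]
        _ = n * (n * (n' * p)) := by group
        _ = n := by rw [h, mul_one]
    have h2 : n' = n * p := by rw [← h1, mul_assoc, hpp, mul_one]
    rw [h2, ← mul_assoc, hqn, mul_assoc, mul_assoc, hpc hq]
  have hqq'Q : q * q' ∈ Q p := mul_mem hq hq'
  have l := hline q hq (hne1 q (by rw [← hn]; exact hn1))
  have l' := hline q' hq' (hne1 q' (by rw [← hn']; exact hn'1))
  have l'' := hline (q * q') hqq'Q (hne1 _ (by rw [hn'']; exact hn''1))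
  rw [← hn] at l
  rw [← hn'] at l'
  rw [hn''] at l''
  -- choice of `q₂`
  obtain ⟨q₂, hq₂, hq₂n, hq₂n', hq₂t⟩ : ∃ q₂ ∈ Q p, q₂ * n = n * q₂ ∧ q₂ * n' = n' * q₂ ∧ t * q₂ ≠ q₂ * t := by
    by_contra hcon
    push Not at hcon
    set w := (B.large p c.hp).pr ⟨n, hnQ⟩ with hw
    set w' := (B.large p c.hp).pr ⟨n', hnQ'⟩ with hw'
    have h1 : S.perp (Submodule.span (ZMod 2) {w, w'}) ≤ S.perp (QS.W (Com.T B c.toCom)) := by
      intro v hv
      obtain ⟨x, hx, rfl⟩ := pr_surj _ v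
      rw [c.fix_iff B hx]
      apply hcon x hx
      · have h2 := S.mem_perp.1 hv w (Submodule.subset_span (by simp))
        exact (((B.large p c.hp).b_pr _ _).1 h2).symm
      · have h2 := S.mem_perp.1 hv w' (Submodule.subset_span (by simp))
        exact (((B.large p c.hp).b_pr _ _).1 h2).symm
    have h2 : QS.W (Com.T B c.toCom) ≤ Submodule.span (ZMod 2) {w, w'} := by
      intro u hu
      rw [← S.perp_perp (Submodule.span (ZMod 2) {w, w'}), S.mem_perp]
      intro v hv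
      rw [S.b_comm]
      exact S.mem_perp.1 (h1 hv) u hu
    have h3 : Nat.card (QS.W (Com.T B c.toCom)) ≤ 4 := by
      classical
      have h4 : (QS.W (Com.T B c.toCom) : Set (B.large p c.hp).V) ⊆ (({0, w, w', w + w'} : Finset _) : Set _) := by
        intro v hv
        obtain ⟨a, b, rfl⟩ := Submodule.mem_span_pair.1 (h2 hv)
        simp only [Finset.coe_insert, Finset.coe_singleton, Set.mem_insert_iff, Set.mem_singleton_iff]
        rcases zm_cases a with rfl | rfl <;> rcases zm_cases b with rfl | rfl <;> simp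
      have h5 : Nat.card (QS.W (Com.T B c.toCom)) = Set.ncard (QS.W (Com.T B c.toCom) : Set (B.large p c.hp).V) := rfl
      rw [h5]
      refine (Set.ncard_le_ncard h4 (Finset.finite_toSet _)).trans ?_
      rw [Set.ncard_coe_finset]
      exact Finset.card_le_four
    have h4 := c.card_W B f
    have h5 := Nat.mul_le_mul h3 h3
    have h6 := hbig p c.hp
    omega
  obtain ⟨n₂, hn₂⟩ : ∃ n₂, n₂ = t * q₂ * t⁻¹ * q₂⁻¹ := ⟨_, rfl⟩
  have hnQ₂ : n₂ ∈ Q p := by rw [hn₂]; exact hQn hq₂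
  have hnt₂ : t * n₂ = n₂ * t := by rw [hn₂]; exact c.nn_comm_t B hq₂
  have hn2₂ : n₂ * n₂ = 1 := by rw [hn₂]; exact c.sq_comm B hq₂
  have hqn₂ : q * n₂ = n₂ * q := by
    rw [hn₂]
    rw [hn] at hq₂n
    exact (c.comm_nn_iff B hq₂ hq).1 hq₂n
  have hq'n₂ : q' * n₂ = n₂ * q' := by
    rw [hn₂]
    rw [hn'] at hq₂n'
    exact (c.comm_nn_iff B hq₂ hq').1 hq₂n'
  have hn₂n : n₂ * n = n * n₂ := by rw [hn₂, hn]; exact hcomm hq₂ hq
  have hn₂n' : n₂ * n' = n' * n₂ := by rw [hn₂, hn']; exact hcomm hq₂ hq'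
  have l₂ := hline q₂ hq₂ hq₂t
  rw [← hn₂] at l₂
  have cancel : ∀ {a b : G}, b * b = 1 → a * b = 1 → a = b := by
    intro a b hb h
    rw [eq_inv_of_mul_eq_one_left h]
    exact inv_eq_of_mul_eq_one_left hb
  -- `n₂ n`
  have m1 : t * (q₂ * q) * t⁻¹ * (q₂ * q)⁻¹ = n₂ * n := by
    rw [hn₂, hn]
    exact nn_mul_of_comm (by rw [← hn]; exact hq₂n)
  have l1 := hline (q₂ * q) (mul_mem hq₂ hq) (hne1 _ (by
    rw [m1]
    intro h
    apply hq'n
    rw [← cancel hn2 h]; exact hq'n₂))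
  rw [m1] at l1
  have m2 : t * (q₂ * q') * t⁻¹ * (q₂ * q')⁻¹ = n₂ * n' := by
    rw [hn₂, hn']
    exact nn_mul_of_comm (by rw [← hn']; exact hq₂n')
  have l2 := hline (q₂ * q') (mul_mem hq₂ hq') (hne1 _ (by
    rw [m2]
    intro h
    apply hqn'
    rw [← cancel hn2' h]; exact hqn₂))
  rw [m2] at l2
  have hq₂n'' : q₂ * (n * (n' * p)) = n * (n' * p) * q₂ := by
    calc q₂ * (n * (n' * p)) = (q₂ * n) * n' * p := by group
      _ = n * (q₂ * n') * p := by rw [hq₂n]; group
      _ = n * n' * (q₂ * p) := by rw [hq₂n']; group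
      _ = n * (n' * p) * q₂ := by rw [hpc hq₂]; group
  have m3 : t * (q₂ * (q * q')) * t⁻¹ * (q₂ * (q * q'))⁻¹ = n₂ * (n * (n' * p)) := by
    rw [nn_mul_of_comm (by rw [hn'']; exact hq₂n''), hn'', ← hn₂]
  have hn''2 : n * (n' * p) * (n * (n' * p)) = 1 := by
    rw [← hn'']; exact c.sq_comm B hqq'Q
  have l3 := hline (q₂ * (q * q')) (mul_mem hq₂ hqq'Q) (hne1 _ (by
    rw [m3]
    intro h
    have h1 := cancel hn''2 h
    apply hqn'
    have h2 : n' = n * (n₂ * p) := by
      rw [h1]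
      calc n' = (n * n) * (n' * (p * p)) := by rw [hn2, hpp]; group
        _ = n * (n * (n' * p) * p) := by group
    rw [h2]
    calc q * (n * (n₂ * p)) = (q * n) * n₂ * p := by group
      _ = n * (q * n₂) * p := by rw [hqn]; group
      _ = n * n₂ * (q * p) := by rw [hqn₂]; group
      _ = n * (n₂ * p) * q := by rw [hpc hq]; group))
  rw [m3] at l3
  have hn''t : t * (n * (n' * p)) = n * (n' * p) * t := by
    rw [← hn'']; exact c.nn_comm_t B hqq'Q
  -- the four lines
  obtain ⟨b1, hb1, hb1', hb1''⟩ := meetR B hD1 hnQ hnt₂ hnt hn₂n hn2₂ hn2 l₂ l l1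
  obtain ⟨b2, hb2, hb2', hb2''⟩ := meetR B hD1 hnQ' hnt₂ hnt' hn₂n' hn2₂ hn2' l₂ l' l2
  obtain ⟨b3, hb3, hb3', hb3''⟩ := meetR B hD1 hn''Q hnt₂ hn''t (by
    calc n₂ * (n * (n' * p)) = (n₂ * n) * n' * p := by group
      _ = n * (n₂ * n') * p := by rw [hn₂n]; group
      _ = n * n' * (n₂ * p) := by rw [hn₂n']; group
      _ = n * (n' * p) * n₂ := by rw [hpc hnQ₂]; group) hn2₂ hn''2 l₂ l'' l3
  -- `W_t ≤ A + A' + A''`
  have hcW := c.symm.card_W B f.symm
  have hcV := hbig t c.ht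
  obtain ⟨k, hk⟩ := QS.Inv.card_W (Com.T_inv B c.symm.toCom) (fun v => c.symm.q_W B (QS.f_mem_W _ v))
    (c.symm.W_eq B f.symm)
  have hc64 : 64 ≤ Nat.card (QS.W (Com.T B c.symm.toCom)) := by
    rw [hk]
    by_contra h
    push Not at h
    have hk3 : k < 3 := by
      by_contra h1
      push Not at h1
      have := Nat.pow_le_pow_right (by norm_num : 1 ≤ 4) h1
      omega
    have h2 : 4 ^ k ≤ 4 ^ 2 := Nat.pow_le_pow_right (by norm_num) (by omega)
    rw [hk] at hcW
    have h3 := Nat.mul_le_mul h2 h2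
    have h4 : Nat.card (B.large t c.symm.hp).V = Nat.card (B.large t c.ht).V := rfl
    omega
  have hsub : QS.W (Com.T B c.symm.toCom) ≤ Wd B c.ht (t * n) ⊔ Wd B c.ht (t * n') ⊔ Wd B c.ht (t * (n * (n' * p))) := by
    rintro _ ⟨v, rfl⟩
    show Com.T B c.symm.toCom v + v ∈ _
    have hc1 : (t * n) * t = t * (t * n) := l.com.symm
    have hc2 : (t * n') * t = t * (t * n') := l'.com.symm
    have hc3 : (t * (n * (n' * p))) * t = t * (t * (n * (n' * p))) := l''.com.symm
    have hc12 : (t * n) * (t * n') * t = t * ((t * n) * (t * n')) := by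
      rw [mul_assoc, hc2, ← mul_assoc, hc1, mul_assoc]
    have hc123 : (t * n) * (t * n') * (t * (n * (n' * p))) * t = t * ((t * n) * (t * n') * (t * (n * (n' * p)))) := by
      rw [mul_assoc, hc3, ← mul_assoc, hc12, mul_assoc]
    have hc123t : (t * n) * (t * n') * (t * (n * (n' * p))) * t * t =
        t * ((t * n) * (t * n') * (t * (n * (n' * p))) * t) := by
      rw [← mul_assoc t ((t * n) * (t * n') * (t * (n * (n' * p)))) t, ← hc123]
    have ep : p = (t * n) * (t * n') * (t * (n * (n' * p))) * t := by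
      have a1 : (t * n) * (t * n') = n * n' := by
        calc (t * n) * (t * n') = (n * t) * (t * n') := by rw [hnt]
          _ = n * (t * t) * n' := by group
          _ = n * n' := by rw [htt, mul_one]
      have a2 : t * (n * (n' * p)) * t = n * (n' * p) := by
        rw [mul_assoc, ← hn''t, ← mul_assoc, htt, one_mul]
      have a3 : n * n' * (n * (n' * p)) = p := by
        calc n * n' * (n * (n' * p)) = n * (n' * n) * (n' * p) := by group
          _ = n * (n * n') * (n' * p) := by rw [← hnn']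
          _ = (n * n) * (n' * n') * p := by group
          _ = p := by rw [hn2, hn2', one_mul, one_mul]
      rw [mul_assoc, a1, a2, a3]
    have e1 : Com.T B c.symm.toCom v = ac (B.large t c.ht) (t * n) hc1 (ac (B.large t c.ht) (t * n') hc2
        (ac (B.large t c.ht) (t * (n * (n' * p))) hc3 v)) := by
      have h1 : Com.T B c.symm.toCom v = ac (B.large t c.ht) p c.com v := rfl
      rw [h1, ac_congr B c.ht c.com hc123t ep v, ac_mul _ _ _ hc123 rfl,
        ac_triv B c.ht rfl (B.large t c.ht).z_mem, ac_mul _ _ _ hc12 hc3, ac_mul _ _ _ hc1 hc2]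
    set v3 := ac (B.large t c.ht) (t * (n * (n' * p))) hc3 v with hv3
    set v2 := ac (B.large t c.ht) (t * n') hc2 v3 with hv2
    set v1 := ac (B.large t c.ht) (t * n) hc1 v2 with hv1
    have e2 : Com.T B c.symm.toCom v + v = (v1 + v2) + (v2 + v3) + (v3 + v) := by
      rw [e1]
      have : (v1 + v2) + (v2 + v3) + (v3 + v) = v1 + v + (v2 + v2) + (v3 + v3) := by abel
      rw [this, vadd_self, vadd_self, add_zero, add_zero]
    rw [e2]
    refine Submodule.add_mem_sup (Submodule.add_mem_sup ?_ ?_) ?_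
    · rw [show Wd B c.ht (t * n) = Wd B l.hp (t * n) from rfl, l.Wd_eq B]
      exact QS.f_mem_W _ _
    · rw [show Wd B c.ht (t * n') = Wd B l'.hp (t * n') from rfl, l'.Wd_eq B]
      exact QS.f_mem_W _ _
    · rw [show Wd B c.ht (t * (n * (n' * p))) = Wd B l''.hp (t * (n * (n' * p))) from rfl, l''.Wd_eq B]
      exact QS.f_mem_W _ _
  exact false_of_meet (fun a ha a' ha' a'' ha'' h => indep_of_card (card_Wd' B l) (card_Wd' B l') (card_Wd' B l'')
    hsub hc64 ha ha' ha'' h) (card_Wd' B l₂) hb1'' hb2'' hb3'' hb1' hb2' hb3' hb1 hb2 hb3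

end Cfsg.Agent.LargeExtra.WCIrr

end

section


/-!
# Large extraspecial 2-subgroups, `z` weakly closed in `Q`: no triples `(p, t, p t)` of points (helper888)
-/

set_option autoImplicit false

namespace Cfsg.Agent.LargeExtra.WC.QS

variable {V : Type*} [AddCommGroup V] [Module (ZMod 2) V] {S : QS V}

/-- four root elements with `T₁ T₂ = T₃ T₄` and lines in a grid -/
theorem false_of_four [Finite V] {T₁ T₂ T₃ T₄ : V ≃ₗ[ZMod 2] V} (h1 : S.Sing T₁) (h2 : S.Sing T₂) (h3 : S.Sing T₃)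
    (h4 : S.Sing T₄) (hT : ∀ x, T₁ (T₂ x) = T₃ (T₄ x)) (d12 : ∀ w ∈ W T₁, w ∈ W T₂ → w = 0)
    (d34 : ∀ w ∈ W T₃, w ∈ W T₄ → w = 0) {e b e' b' : V} (he : e ∈ W T₁) (he3 : e ∈ W T₃) (hb : b ∈ W T₂)
    (hb3 : b ∈ W T₃) (he' : e' ∈ W T₁) (he4 : e' ∈ W T₄) (hb' : b' ∈ W T₂) (hb4 : b' ∈ W T₄) (e0 : e ≠ 0)
    (b0 : b ≠ 0) (e0' : e' ≠ 0) (b0' : b' ≠ 0) : False := by
  have hee : e ≠ e' := fun h => e0 (d34 e he3 (by rw [h]; exact he4))
  have hbb : b ≠ b' := fun h => b0 (d34 b hb3 (by rw [h]; exact hb4))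
  have heb : e ≠ b := fun h => e0 (d12 e he (by rw [h]; exact hb))
  have heb' : e' ≠ b' := fun h => e0' (d12 e' he' (by rw [h]; exact hb'))
  -- the dual vector
  obtain ⟨x, hx1, hx2, hx3, hx4⟩ : ∃ x, S.b x e = 1 ∧ S.b x e' = 0 ∧ S.b x b = 0 ∧ S.b x b' = 0 := by
    by_contra hcon
    push Not at hcon
    have h5 : e ∈ Submodule.span (ZMod 2) ({e', b, b'} : Set V) := by
      rw [← S.perp_perp (Submodule.span (ZMod 2) ({e', b, b'} : Set V)), S.mem_perp]
      intro x hx
      have k1 : S.b x e' = 0 := by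
        rw [S.b_comm]; exact S.mem_perp.1 hx e' (Submodule.subset_span (by simp))
      have k2 : S.b x b = 0 := by
        rw [S.b_comm]; exact S.mem_perp.1 hx b (Submodule.subset_span (by simp))
      have k3 : S.b x b' = 0 := by
        rw [S.b_comm]; exact S.mem_perp.1 hx b' (Submodule.subset_span (by simp))
      rcases zm_cases (S.b x e) with h | h
      · exact h
      · exact absurd k3 (hcon x h k1 k2)
    obtain ⟨α, β, γ, h6⟩ := Submodule.mem_span_triple.1 h5
    have h7 : e + α • e' = β • b + γ • b' := by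
      rw [← h6]
      have : α • e' + β • b + γ • b' + α • e' = (α • e' + α • e') + (β • b + γ • b') := by abel
      rw [this, vadd_self, zero_add]
    have h8 : e + α • e' = 0 := by
      apply d12
      · exact Submodule.add_mem _ he (Submodule.smul_mem _ _ he')
      · rw [h7]
        exact Submodule.add_mem _ (Submodule.smul_mem _ _ hb) (Submodule.smul_mem _ _ hb')
    rcases zm_cases α with h | h
    · rw [h, zero_smul, add_zero] at h8; exact e0 h8
    · rw [h, one_smul] at h8; exact hee (eq_of_add h8)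
  have f1 := h1.formula he he' e0 e0' hee
  have f2 := h2.formula hb hb' b0 b0' hbb
  have f3 := h3.formula he3 hb3 e0 b0 heb
  have f4 := h4.formula he4 hb4 e0' b0' heb'
  have k1 : T₂ x = x := by rw [f2, hx3, hx4, zero_smul, zero_smul, add_zero, add_zero]
  have k2 : T₄ x = x := by rw [f4, hx2, hx4, zero_smul, zero_smul, add_zero, add_zero]
  have k3 := hT x
  rw [k1, k2, f1, f3, hx1, hx2, hx3] at k3
  simp only [one_smul, zero_smul, add_zero] at k3
  have k4 := add_left_cancel k3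
  exact e0' (d12 e' he' (by rw [k4]; exact hb))

theorem Sing.exists_other {T : V ≃ₗ[ZMod 2] V} (h : S.Sing T) (w : V) : ∃ c ∈ W T, c ≠ 0 ∧ c ≠ w := by
  obtain ⟨a, ha, b, hb, a0, b0, hab⟩ := h.exists_basis
  by_cases h1 : a = w
  · exact ⟨b, hb, b0, by rw [← h1]; exact hab.symm⟩
  · exact ⟨a, ha, a0, h1⟩

/-- product of two root elements with perpendicular lines which meet -/
theorem sing_of_meet [Finite V] {T R X : V ≃ₗ[ZMod 2] V} (hT : S.Sing T) (hR : S.Sing R) (hX : S.Inv X)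
    (hp : W T ≤ S.perp (W R)) {w : V} (hw : w ∈ W T) (hw' : w ∈ W R) (w0 : w ≠ 0) (h : ∀ v, X v = T (R v))
    (hne : ∃ v, X v ≠ v) : S.Sing X := by
  obtain ⟨c, hc, c0, hcw⟩ := hT.exists_other w
  obtain ⟨c', hc', c0', hcw'⟩ := hR.exists_other w
  have f1 := hT.formula hw hc w0 c0 hcw.symm
  have f2 := hR.formula hw' hc' w0 c0' hcw'.symm
  have hTc' : T c' = c' := by
    rw [hT.fix_iff, S.mem_perp]
    intro u hu
    rw [S.b_comm]
    exact S.mem_perp.1 (hp hu) c' hc'
  have hTw : T w = w := hT.fix_W hw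
  have hf : ∀ v, X v = v + S.b v w • (c + c') + S.b v (c + c') • w := by
    intro v
    rw [h, f2, map_add, map_add, map_smul, map_smul, hTc', hTw, f1, map_add, add_smul, smul_add]
    abel
  have hcc : c + c' ≠ 0 := by
    intro h0
    obtain ⟨v, hv⟩ := hne
    apply hv
    rw [hf, h0, map_zero, smul_zero, zero_smul, add_zero, add_zero]
  have hccw : w ≠ c + c' := by
    intro h0
    obtain ⟨v, hv⟩ := hne
    apply hv
    rw [hf, ← h0, add_assoc, vadd_self, add_zero]
  have hqc := hT.q_W hc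
  have hqc' := hR.q_W hc'
  have hbc : S.b c c' = 0 := by
    rw [S.b_comm]; exact S.mem_perp.1 (hp hc) c' hc'
  refine (sing_of_formula hX w0 hcc hccw (hT.q_W hw) ?_ ?_ hf).1
  · rw [S.q_add, hqc, hqc', hbc]; decide
  · rw [map_add, S.mem_perp.1 (hT.W_le hc) w hw, S.mem_perp.1 (hR.W_le hc') w hw', add_zero]

end Cfsg.Agent.LargeExtra.WC.QS

namespace Cfsg.Agent.LargeExtra.WCIrr

open Cfsg.Agent.Co2Type.Quad Cfsg.Agent.LargeExtra.WC

variable {G : Type*} [Group G] {P : Set G} {Q : G → Subgroup G} {p t : G}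

/-- a nonzero singular vector of `[V_p, t]` -/
theorem exists_sing_vec [Finite G] (B : Base P Q) (c : Com P p t) (hR : NoRefl (Q p) p) :
    ∃ v, Com.T B c v + v ≠ 0 ∧ (B.large p c.hp).q (Com.T B c v + v) = 0 := by
  set h := B.large p c.hp with hh
  by_contra hcon
  push Not at hcon
  obtain ⟨v1, hv1⟩ := Com.T_ne B c
  set w := Com.T B c v1 + v1 with hw
  have hw0 : w ≠ 0 := fun h => hv1 (eq_of_add h)
  have hqw : h.q w = 1 := by
    rcases zm_cases (h.q w) with h1 | h1
    · exact absurd h1 (hcon v1 hw0)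
    · exact h1
  have hT := Com.T_inv B c
  have hW : ∀ v, Com.T B c v + v = 0 ∨ Com.T B c v + v = w := by
    intro v
    by_contra hne
    push Not at hne
    have h1 : h.q (Com.T B c v + v) = 1 := by
      rcases zm_cases (h.q (Com.T B c v + v)) with h1 | h1
      · exact absurd h1 (hcon v hne.1)
      · exact h1
    have h2 : Com.T B c (v + v1) + (v + v1) = (Com.T B c v + v) + w := by
      rw [map_add, hw]; abel
    have h3 : h.b (Com.T B c v + v) w = 0 := hT.isotropic (QS.f_mem_W _ _) (QS.f_mem_W _ _)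
    apply hcon (v + v1)
    · rw [h2]
      exact fun h4 => hne.2 (eq_of_add h4)
    · rw [h2, h.q_add', h1, hqw, h3]; decide
  have hfix : ∀ v, h.b w v = 0 → Com.T B c v = v := by
    intro v hv
    rw [hT.fix_iff, QS.mem_perp]
    rintro _ ⟨u, rfl⟩
    show h.b (Com.T B c u + u) v = 0
    rcases hW u with h1 | h1
    · rw [h1, map_zero]; rfl
    · rw [h1]; exact hv
  rcases TwoCentral.eq_or_refl_of_fix_perp h (Com.T B c) (fun v w => hT.iso.b_eq v w) hfix with h1 | h1
  · apply hv1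
    rw [h1]; rfl
  · obtain ⟨u, hu, huw⟩ := pr_surj h w
    rw [← huw] at h1 hqw
    refine hR u hu (h.q_eq_one.1 hqw) t c.com.symm fun x hx => ?_
    have h2 := h1 (h.pr ⟨x, hx⟩)
    rw [Com.T, ac_pr] at h2
    constructor
    · intro h3
      rw [(h.b_pr ⟨u, hu⟩ ⟨x, hx⟩).2 h3.symm, zero_smul, add_zero, h.pr_eq_pr] at h2
      exact h2
    · intro h3
      have h4 : h.b (h.pr ⟨u, hu⟩) (h.pr ⟨x, hx⟩) = 1 := by
        rcases zm_cases (h.b (h.pr ⟨u, hu⟩) (h.pr ⟨x, hx⟩)) with h5 | h5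
        · exact absurd ((h.b_pr _ _).1 h5).symm h3
        · exact h5
      rw [h4, one_smul, ← h.pr_mul, h.pr_eq_pr] at h2
      exact h2

section triple

variable (B : Base P Q) (hgood : ∀ p t, Good P p t → Line P Q p t) (c : Com P p t) (hpt : p * t ∈ P)
include B hgood c hpt

/-- `t [t, x]` and `t [t, x] p` are points; both form lines with `t` -/
theorem line_of_nn {x u : G} (hx : x ∈ Q p) (hu : u = t * x * t⁻¹ * x⁻¹ ∨ u = t * x * t⁻¹ * x⁻¹ * p)
    (hu2 : u * u = 1) (h1 : u ≠ 1) (hp1 : u ≠ p) : Line P Q t (t * u) ∧ t * u = u * t := by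
  have hpp := B.sq c.hp
  have htt := B.sq c.ht
  have hxp : x * p = p * x := (B.large p c.hp).comm_z x hx
  have hnQ := Com.u_mem B c hx
  have huQ : u ∈ Q p := by
    rcases hu with rfl | rfl
    · exact hnQ
    · exact mul_mem hnQ (B.large p c.hp).z_mem
  have hP : t * u ∈ P := by
    rcases hu with rfl | rfl
    · rw [← Com.conj_eq B c x]
      exact B.conj_mem t c.ht x
    · have e : x * (p * t) * x⁻¹ = t * (t * x * t⁻¹ * x⁻¹ * p) := by
        calc x * (p * t) * x⁻¹ = (x * p) * t * x⁻¹ := by group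
          _ = p * (x * t * x⁻¹) := by rw [hxp]; group
          _ = p * (t * (t * x * t⁻¹ * x⁻¹)) := by rw [Com.conj_eq B c x]
          _ = (p * t) * (t * x * t⁻¹ * x⁻¹) := by group
          _ = t * (p * (t * x * t⁻¹ * x⁻¹)) := by rw [c.com]; group
          _ = t * (t * x * t⁻¹ * x⁻¹ * p) := by rw [(B.large p c.hp).comm_z _ hnQ]
      rw [← e]
      exact B.conj_mem _ hpt x
  have hcomm : t * u = u * t := by
    have h2 := B.sq hP
    calc t * u = (t * u) * (u * u) := by rw [hu2, mul_one]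
      _ = t * u * (t * t) * u * u := by rw [htt]; group
      _ = (t * u * (t * u)) * (u⁻¹ * t * u * u) := by group
      _ = u⁻¹ * t * (u * u) := by rw [h2]; group
      _ = u * t := by rw [hu2, mul_one, inv_eq_of_mul_eq_one_left hu2]
  refine ⟨hgood _ _ ⟨⟨c.ht, hP, ?_, ?_⟩, ?_⟩, hcomm⟩
  · intro h
    exact h1 (mul_eq_left.1 h.symm)
  · rw [mul_assoc, hcomm]
  · rw [← mul_assoc, htt, one_mul]
    intro h
    exact hp1 (B.eq_of_mem p c.hp u h huQ)

omit hgood hpt in
/-- `p` acts on `V_t` as the product of `t u` and `t (u p)` -/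
theorem act_p {u : G} (hu2 : u * u = 1) (hut : t * u = u * t) (hp1 : (t * u) * t = t * (t * u))
    (hp2 : (t * (u * p)) * t = t * (t * (u * p))) (v : (B.large t c.ht).V) :
    Com.T B c.symm v = ac (B.large t c.ht) (t * u) hp1 (ac (B.large t c.ht) (t * (u * p)) hp2 v) := by
  have htt := B.sq c.ht
  have e : p = (t * u) * (t * (u * p)) := by
    calc p = (t * t) * (u * u) * p := by rw [htt, hu2]; group
      _ = t * (t * u) * (u * p) := by group
      _ = t * (u * t) * (u * p) := by rw [hut]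
      _ = _ := by group
  have h3 : (t * u) * (t * (u * p)) * t = t * ((t * u) * (t * (u * p))) := by
    rw [← e]; exact c.com
  have h1 : Com.T B c.symm v = ac (B.large t c.ht) p c.com v := rfl
  rw [h1, ac_congr B c.ht c.com h3 e v, ac_mul _ _ _ hp1 hp2]

omit hgood in
/-- the lines of `t u` and `t (u p)` are perpendicular and disjoint -/
theorem disj_of_triple [Finite G] (hbig : ∀ p (hp : p ∈ P), 128 ≤ Nat.card (B.large p hp).V) {u : G}
    (huQ : u ∈ Q p) (hu2 : u * u = 1) (hut : t * u = u * t) (l : Line P Q t (t * u)) (l' : Line P Q t (t * (u * p))) :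
    Wd B c.ht (t * u) ≤ (qs (B.large t c.ht)).perp (Wd B c.ht (t * (u * p))) ∧
      ∀ w ∈ Wd B c.ht (t * u), w ∈ Wd B c.ht (t * (u * p)) → w = 0 := by
  have htt := B.sq c.ht
  have hup : u * p = p * u := (B.large p c.hp).comm_z u huQ
  have hcomm : t * u * (t * (u * p)) = t * (u * p) * (t * u) := by
    calc t * u * (t * (u * p)) = (t * u) * t * u * p := by group
      _ = (u * t) * t * u * p := by rw [hut]
      _ = u * (t * t) * u * p := by group
      _ = (u * u) * p := by rw [htt]; group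
      _ = p := by rw [hu2, one_mul]
      _ = (t * t) * (u * u) * p := by rw [htt, hu2]; group
      _ = t * (t * u) * (u * p) := by group
      _ = t * (u * t) * (p * u) := by rw [hut, hup]
      _ = t * u * (t * p) * u := by group
      _ = t * u * (p * t) * u := by rw [c.com]
      _ = _ := by group
  have h64 : ∀ p (hp : p ∈ P), 64 ≤ Nat.card (B.large p hp).V := fun p hp => by
    have := hbig p hp
    omega
  have hperp := l.perp_of_comm B h64 l' hcomm
  have e1 : Wd B c.ht (t * u) = QS.W (Com.T B l.toCom) := l.Wd_eq B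
  have e2 : Wd B c.ht (t * (u * p)) = QS.W (Com.T B l'.toCom) := l'.Wd_eq B
  refine ⟨?_, ?_⟩
  · rw [e1, e2]; exact hperp
  · intro w hw hw'
    by_contra w0
    rw [e1] at hw
    rw [e2] at hw'
    have hs := QS.sing_of_meet (l.sing B) (l'.sing B) (Com.T_inv B c.symm) hperp hw hw' w0
      (fun v => act_p B c hu2 hut l.com.symm l'.com.symm v) (Com.T_ne B c.symm)
    have l2 := line_of_sing B c.symm (hbig t c.ht) hs
    apply l2.good.nmem
    rw [← c.com]; exact hpt

/-- `[V_t, p]` is totally singular -/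
theorem triple_sing [Finite G] (hbig : ∀ p (hp : p ∈ P), 128 ≤ Nat.card (B.large p hp).V)
    (hR : NoRefl (Q p) p) (v : (B.large t c.ht).V) : (B.large t c.ht).q (Com.T B c.symm v + v) = 0 := by
  have hpp := B.sq c.hp
  obtain ⟨v1, h1, h2⟩ := exists_sing_vec B c hR
  obtain ⟨x, hx, rfl⟩ := pr_surj _ v1
  rw [Com.T, ac_add] at h1 h2
  obtain ⟨u, hu⟩ : ∃ u, u = t * x * t⁻¹ * x⁻¹ := ⟨_, rfl⟩
  have huQ : u ∈ Q p := by rw [hu]; exact Com.u_mem B c hx
  have hu2 : u * u = 1 := by rw [hu]; exact (B.large p c.hp).q_eq_zero.1 h2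
  have hu1 : u ≠ 1 := by
    intro h
    exact h1 ((B.large p c.hp).pr_eq_zero.2 (Or.inl (hu.symm.trans h)))
  have hup1 : u ≠ p := by
    intro h
    exact h1 ((B.large p c.hp).pr_eq_zero.2 (Or.inr (hu.symm.trans h)))
  have hup : u * p = p * u := (B.large p c.hp).comm_z u huQ
  obtain ⟨l, hut⟩ := line_of_nn B hgood c hpt hx (Or.inl hu) hu2 hu1 hup1
  obtain ⟨l', -⟩ := line_of_nn B hgood c hpt (u := u * p) hx (Or.inr (by rw [hu])) (by
    calc u * p * (u * p) = u * (p * u) * p := by group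
      _ = u * (u * p) * p := by rw [hup]
      _ = (u * u) * (p * p) := by group
      _ = 1 := by rw [hu2, hpp, one_mul]) (by
    intro h
    apply hup1
    rw [eq_inv_of_mul_eq_one_left h, B.inv c.hp]) (by
    intro h
    exact hu1 (mul_eq_right.1 h))
  obtain ⟨h3, h4⟩ := disj_of_triple B c hpt hbig huQ hu2 hut l l'
  have e1 : Wd B c.ht (t * u) = QS.W (Com.T B l.toCom) := l.Wd_eq B
  have e2 : Wd B c.ht (t * (u * p)) = QS.W (Com.T B l'.toCom) := l'.Wd_eq B
  rw [e1, e2] at h3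
  rw [act_p B c hu2 hut l.com.symm l'.com.symm v]
  set v2 := ac (B.large t c.ht) (t * (u * p)) l'.com.symm v with hv2
  set v3 := ac (B.large t c.ht) (t * u) l.com.symm v2 with hv3
  have k1 : v3 + v2 ∈ QS.W (Com.T B l.toCom) := QS.f_mem_W _ v2
  have k2 : v2 + v ∈ QS.W (Com.T B l'.toCom) := QS.f_mem_W _ v
  have e3 : v3 + v = (v3 + v2) + (v2 + v) := by
    have : (v3 + v2) + (v2 + v) = v3 + v + (v2 + v2) := by abel
    rw [this, vadd_self, add_zero]
  rw [e3, (B.large t c.ht).q_add']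
  have k3 : (B.large t c.ht).q (v3 + v2) = 0 := (l.sing B).q_W k1
  have k4 : (B.large t c.ht).q (v2 + v) = 0 := (l'.sing B).q_W k2
  have k5 : (B.large t c.ht).b (v3 + v2) (v2 + v) = 0 := by
    rw [(B.large t c.ht).b_comm]
    exact QS.mem_perp _ |>.1 (h3 k1) _ k2
  rw [k3, k4, k5]; decide

end triple

/-- **No triples** `(p, t, p t)` of points -/
theorem false_of_triple_big [Finite G] (B : Base P Q) (hgood : ∀ p t, Good P p t → Line P Q p t)
    (hbig : ∀ p (hp : p ∈ P), 128 ≤ Nat.card (B.large p hp).V) (hR : ∀ p ∈ P, NoRefl (Q p) p)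
    (c : Com P p t) (hpt : p * t ∈ P) : False := by
  have hpp := B.sq c.hp
  have htp : t * p ∈ P := by rw [← c.com]; exact hpt
  have hs : ∀ v : (B.large p c.hp).V, (B.large p c.hp).q (Com.T B c v + v) = 0 := fun v =>
    triple_sing B hgood c.symm htp hbig (hR t c.ht) v
  have hT := Com.T_inv B c
  have hqW : ∀ w ∈ QS.W (Com.T B c), (B.large p c.hp).q w = 0 := by
    rintro _ ⟨v, rfl⟩
    exact hs v
  have hpr : ∀ u (hu : u ∈ Q p), (B.large p c.hp).pr ⟨u, hu⟩ ≠ 0 → u ≠ 1 ∧ u ≠ p := by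
    intro u hu h
    constructor
    · rintro rfl; exact h ((B.large p c.hp).pr_eq_zero.2 (Or.inl rfl))
    · intro h1; exact h ((B.large p c.hp).pr_eq_zero.2 (Or.inr h1))
  have lineR : ∀ u (hu : u ∈ Q p), (B.large p c.hp).pr ⟨u, hu⟩ ∈ QS.W (Com.T B c) →
      (B.large p c.hp).pr ⟨u, hu⟩ ≠ 0 → Line P Q t (t * u) ∧ t * u = u * t ∧ u * u = 1 ∧ u ∉ Q t := by
    intro u hu h1 h2
    obtain ⟨k1, k2⟩ := hpr u hu h2
    have hu2 : u * u = 1 := (B.large p c.hp).q_eq_zero.1 (hqW _ h1)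
    obtain ⟨v, hv⟩ := id h1
    obtain ⟨x, hx, rfl⟩ := pr_surj _ v
    change Com.T B c ((B.large p c.hp).pr ⟨x, hx⟩) + (B.large p c.hp).pr ⟨x, hx⟩ = _ at hv
    rw [Com.T, ac_add, (B.large p c.hp).pr_eq_pr] at hv
    have h3 : u = t * x * t⁻¹ * x⁻¹ ∨ u = t * x * t⁻¹ * x⁻¹ * p := by
      rcases hv with h | h
      · exact Or.inl h.symm
      · right
        have h' : t * x * t⁻¹ * x⁻¹ = u * p := h
        rw [h', mul_assoc, hpp, mul_one]
    obtain ⟨l, k3⟩ := line_of_nn B hgood c hpt hx h3 hu2 k1 k2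
    refine ⟨l, k3, hu2, fun h => h2 ?_⟩
    exact Com.U_inf_W B c hpt ((Com.mem_U B c).2 ⟨u, hu, h, rfl⟩) h1
  -- two vectors
  obtain ⟨v1, hv1⟩ := Com.T_ne B c
  have hw0 : Com.T B c v1 + v1 ≠ 0 := fun h => hv1 (eq_of_add h)
  obtain ⟨v2, hv20, hv2⟩ : ∃ v2, Com.T B c v2 + v2 ≠ 0 ∧ Com.T B c v2 + v2 ≠ Com.T B c v1 + v1 := by
    by_contra hcon
    push Not at hcon
    have h5 : Com.T B c = 1 := by
      apply TwoCentral.eq_one_of_fix_perp (B.large p c.hp) (a := Com.T B c v1 + v1)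
      · exact hs v1
      · exact hT.iso
      · intro v hv
        rw [hT.fix_iff, QS.mem_perp]
        rintro _ ⟨w, rfl⟩
        show (B.large p c.hp).b (Com.T B c w + w) v = 0
        by_cases hw : Com.T B c w + w = 0
        · rw [hw, map_zero]; rfl
        · rw [hcon w hw]; exact hv
    apply hv1
    rw [h5]; rfl
  have m1 := QS.f_mem_W (Com.T B c) v1
  have m2 := QS.f_mem_W (Com.T B c) v2
  obtain ⟨u, hu, huv⟩ := pr_surj _ (Com.T B c v1 + v1)
  obtain ⟨v, hv, hvv⟩ := pr_surj _ (Com.T B c v2 + v2)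
  rw [← huv] at hw0 m1 hv2
  rw [← hvv] at hv20 m2 hv2
  have hpQ : p ∈ Q p := (B.large p c.hp).z_mem
  have prp : ∀ x (hx : x ∈ Q p), (B.large p c.hp).pr ⟨x * p, mul_mem hx hpQ⟩ = (B.large p c.hp).pr ⟨x, hx⟩ :=
    fun x hx => (B.large p c.hp).pr_eq_pr.2 (Or.inr rfl)
  have prm : ∀ x y (hx : x ∈ Q p) (hy : y ∈ Q p), (B.large p c.hp).pr ⟨x * y, mul_mem hx hy⟩ =
      (B.large p c.hp).pr ⟨x, hx⟩ + (B.large p c.hp).pr ⟨y, hy⟩ :=
    fun x y hx hy => (B.large p c.hp).pr_mul ⟨x, hx⟩ ⟨y, hy⟩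
  have hup : u * p ∈ Q p := mul_mem hu hpQ
  have hvp : v * p ∈ Q p := mul_mem hv hpQ
  obtain ⟨lu, u1, u2, u3⟩ := lineR u hu m1 hw0
  obtain ⟨lv, w1, w2, w3⟩ := lineR v hv m2 hv20
  obtain ⟨lup, up1, up2, up3⟩ := lineR (u * p) hup (by rw [prp u hu]; exact m1) (by rw [prp u hu]; exact hw0)
  obtain ⟨lvp, vp1, vp2, vp3⟩ := lineR (v * p) hvp (by rw [prp v hv]; exact m2) (by rw [prp v hv]; exact hv20)
  have hsum : (B.large p c.hp).pr ⟨u, hu⟩ + (B.large p c.hp).pr ⟨v, hv⟩ ∈ QS.W (Com.T B c) :=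
    Submodule.add_mem _ m1 m2
  have hsum0 : (B.large p c.hp).pr ⟨u, hu⟩ + (B.large p c.hp).pr ⟨v, hv⟩ ≠ 0 := fun h => hv2 (eq_of_add h).symm
  have L : ∀ x y (hx : x ∈ Q p) (hy : y ∈ Q p), (B.large p c.hp).pr ⟨x, hx⟩ = (B.large p c.hp).pr ⟨u, hu⟩ →
      (B.large p c.hp).pr ⟨y, hy⟩ = (B.large p c.hp).pr ⟨v, hv⟩ → Line P Q t (t * (x * y)) ∧ x * y = y * x := by
    intro x y hx hy h1 h2
    refine ⟨(lineR (x * y) (mul_mem hx hy) (by rw [prm x y hx hy, h1, h2]; exact hsum)
      (by rw [prm x y hx hy, h1, h2]; exact hsum0)).1, ?_⟩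
    have h3 : (B.large p c.hp).b ((B.large p c.hp).pr ⟨x, hx⟩) ((B.large p c.hp).pr ⟨y, hy⟩) = 0 := by
      rw [h1, h2]
      exact hT.isotropic m1 m2
    exact ((B.large p c.hp).b_pr _ _).1 h3
  obtain ⟨L1, c1⟩ := L u v hu hv rfl rfl
  obtain ⟨L2, c2⟩ := L (u * p) v hup hv (prp u hu) rfl
  obtain ⟨L3, c3⟩ := L u (v * p) hu hvp rfl (prp v hv)
  obtain ⟨L4, c4⟩ := L (u * p) (v * p) hup hvp (prp u hu) (prp v hv)
  obtain ⟨e, e0, ee, ee3⟩ := meetR' B w3 u1 w1 c1 u2 w2 lu lv L1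
  obtain ⟨b, b0, bb, bb3⟩ := meetR' B w3 up1 w1 c2 up2 w2 lup lv L2
  obtain ⟨e', e0', ee', ee4⟩ := meetR' B vp3 u1 vp1 c3 u2 vp2 lu lvp L3
  obtain ⟨b', b0', bb', bb4⟩ := meetR' B vp3 up1 vp1 c4 up2 vp2 lup lvp L4
  have d12 := (disj_of_triple B c hpt hbig hu u2 u1 lu lup).2
  have d34 := (disj_of_triple B c hpt hbig hv w2 w1 lv lvp).2
  have E1 : Wd B c.ht (t * u) = QS.W (Com.T B lu.toCom) := lu.Wd_eq B
  have E2 : Wd B c.ht (t * (u * p)) = QS.W (Com.T B lup.toCom) := lup.Wd_eq B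
  have E3 : Wd B c.ht (t * v) = QS.W (Com.T B lv.toCom) := lv.Wd_eq B
  have E4 : Wd B c.ht (t * (v * p)) = QS.W (Com.T B lvp.toCom) := lvp.Wd_eq B
  rw [E1, E2] at d12
  rw [E3, E4] at d34
  change e ∈ Wd B c.ht (t * u) at ee
  change e ∈ Wd B c.ht (t * v) at ee3
  change b ∈ Wd B c.ht (t * (u * p)) at bb
  change b ∈ Wd B c.ht (t * v) at bb3
  change e' ∈ Wd B c.ht (t * u) at ee'
  change e' ∈ Wd B c.ht (t * (v * p)) at ee4
  change b' ∈ Wd B c.ht (t * (u * p)) at bb'
  change b' ∈ Wd B c.ht (t * (v * p)) at bb4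
  rw [E1] at ee ee'
  rw [E2] at bb bb'
  rw [E3] at ee3 bb3
  rw [E4] at ee4 bb4
  refine QS.false_of_four (lu.sing B) (lup.sing B) (lv.sing B) (lvp.sing B) (fun x => ?_) d12 d34 ee ee3 bb bb3 ee' ee4
    bb' bb4 e0 b0 e0' b0'
  have k1 := act_p B c u2 u1 lu.com.symm lup.com.symm x
  have k2 := act_p B c w2 w1 lv.com.symm lvp.com.symm x
  exact k1.symm.trans k2

end Cfsg.Agent.LargeExtra.WCIrr

end

section


/-!
# Large extraspecial 2-subgroups of width at least five, `z` weakly closed in `Q`: `z ^ G` is a class of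
3-transpositions (helper888)
-/

set_option autoImplicit false

namespace Cfsg.Agent.LargeExtra.WCIrr

open Cfsg.Agent.Co2Type.Quad Cfsg.Agent.LargeExtra.WC

universe u

section

variable {G : Type*} [Group G] {P : Set G} {Q : G → Subgroup G} {p t : G}

/-- good pairs are lines -/
theorem line_of_good_big [Finite G] (B : Base P Q) (hbig : ∀ p (hp : p ∈ P), 1024 ≤ Nat.card (B.large p hp).V)
    (c : Good P p t) : Line P Q p t := by
  rcases c.dichotomy B (by have := hbig p c.hp; omega) with hU | hF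
  · exact line_of_typeU B c hU
  · exact (TypeF.false_of_big B hbig c hF).elim

/-- all commuting pairs are lines -/
theorem allN_of_big [Finite G] (B : Base P Q) (hbig : ∀ p (hp : p ∈ P), 1024 ≤ Nat.card (B.large p hp).V)
    (hR : ∀ p ∈ P, NoRefl (Q p) p) : AllN P Q where
  toBase := B
  all := by
    intro p hp t ht hne hc
    by_cases hpt : p * t ∈ P
    · exact (false_of_triple_big B (fun p t c => line_of_good_big B hbig c)
        (fun p hp => by have := hbig p hp; omega) hR ⟨hp, ht, hne, hc⟩ hpt).elim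
    · exact line_of_good_big B hbig ⟨⟨hp, ht, hne, hc⟩, hpt⟩
  big := by
    intro p hp
    have h1 := (B.large p hp).card_eq
    have h2 := hbig p hp
    omega

end

variable {G : Type u} [Group G] [Finite G]

/-- **weakly closed, `|Q| ≥ 2 ^ 11`**: all commuting pairs of conjugates of `z` are lines -/
theorem allN_of_wc {Q : Subgroup G} {z : G} (h : Large Q z) (hQ : 2 ^ 11 ≤ Nat.card Q)
    (hwc : ∀ g : G, g * z * g⁻¹ ∈ Q → g * z * g⁻¹ = z) (hR : NoRefl Q z) : AllN (cls z) (QQ Q z) := by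
  have B := base h hwc
  have hz : z ∈ cls z := ⟨1, by group⟩
  refine allN_of_big B ?_ ?_
  · intro p hp
    have h1 := (B.large p hp).card_eq
    have h2 := B.card_eq hp hz
    rw [QQ_self h] at h2
    omega
  · rintro _ ⟨k, rfl⟩
    rw [QQ_eq h]
    exact hR.conj k

/-- **weakly closed, `|Q| ≥ 2 ^ 11`**: the conjugates of `z` are 3-transpositions -/
theorem isThree_of_wc [IsSimpleGroup G] (hG : ¬ IsMulCommutative G) {Q : Subgroup G} {z : G} (h : Large Q z)
    (hQ : 2 ^ 11 ≤ Nat.card Q) (hwc : ∀ g : G, g * z * g⁻¹ ∈ Q → g * z * g⁻¹ = z) :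
    Cfsg.IsThreeTranspositionClass (cls z) := by
  have hnc : ∃ a b : G, a * b ≠ b * a := by
    by_contra hcon
    push Not at hcon
    exact hG ⟨⟨hcon⟩⟩
  have hR : NoRefl Q z := noRefl_of_index h (by omega) (fun H => index_ne_two hnc H)
  have hz : z ∈ cls z := ⟨1, by group⟩
  exact (allN_of_wc h hQ hwc hR).geoN.isThree hG hz

end Cfsg.Agent.LargeExtra.WCIrr

end

section


/-!
# 3-transposition groups with two commuting transpositions on a line of at least four points (helper888, helper876)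
-/

set_option autoImplicit false

namespace Cfsg.Agent.Omega.Exit.Types

open Cfsg.Agent.Fischer480.Defs

section

variable {G : Type*} [Group G] {D : Set G}

/-- commuting points `x, y` with two further points `a, b` such that all points commuting with `x` and `y` commute
with `a` and `b` -/
structure Four (D : Set G) (x y a b : G) : Prop where
  hx : x ∈ D
  hy : y ∈ D
  ha : a ∈ D
  hb : b ∈ D
  xy : x ≠ y
  xa : x ≠ a
  ya : y ≠ a
  xb : x ≠ b
  yb : y ≠ b
  ab : a ≠ b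
  cxy : Commute x y
  da : ∀ d ∈ D, Commute d x → Commute d y → Commute d a
  db : ∀ d ∈ D, Commute d x → Commute d y → Commute d b

variable {x y a b : G}

theorem Four.cxa (H : Four D x y a b) : Commute x a := H.da x H.hx (Commute.refl x) H.cxy

theorem Four.cya (H : Four D x y a b) : Commute y a := H.da y H.hy H.cxy.symm (Commute.refl y)

/-- type `Sp` -/
theorem Four.not_isSp (H : Four D x y a b) {n : ℕ} : ¬ IsSp n D := by
  rintro ⟨B, f, halt, hnd, hne, hcomm, hinj, hsurj⟩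
  have key : ∀ c ∈ D, x ≠ c → y ≠ c → (∀ d ∈ D, Commute d x → Commute d y → Commute d c) → f c = f x + f y := by
    intro c hc hxc hyc h
    have h1 : ∀ u, B u (f x) = 0 → B u (f y) = 0 → B u (f c) = 0 := by
      intro u hux huy
      by_cases hu0 : u = 0
      · rw [hu0]; simp
      obtain ⟨z, hz, rfl⟩ := hsurj u hu0
      rw [← hcomm z hz c hc]
      exact h z hz ((hcomm z hz x H.hx).2 hux) ((hcomm z hz y H.hy).2 huy)
    rcases Cfsg.Agent.Fischer891.FinalSp.span_two B (fun v hv => hnd.2 v hv) h1 with h2 | h2 | h2 | h2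
    · exact absurd h2 (hne c hc)
    · exact absurd (hinj c hc x H.hx h2).symm hxc
    · exact absurd (hinj c hc y H.hy h2).symm hyc
    · exact h2
  exact H.ab (hinj a H.ha b H.hb ((key a H.ha H.xa H.ya H.da).trans (key b H.hb H.xb H.yb H.db).symm))

/-- type `T6` -/
theorem Four.not_isT6 (H : Four D x y a b) : ¬ IsT6 D := by
  rintro ⟨-, h, -⟩
  obtain ⟨F, i1, i2, f, U⟩ := Cfsg.Agent.S0480U.UModel.exists_um (h x H.hx)
  have hy : y ∈ Loc D x := ⟨H.hy, H.xy.symm, H.cxy⟩
  have ha : a ∈ Loc D x := ⟨H.ha, H.xa.symm, H.cxa⟩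
  have h1 := (Cfsg.Agent.S0480U.UModel.mem_line_iff U hy hy (Commute.refl y) (u := a)).1
    ⟨ha, fun d hd hdy _ => H.da d hd.1 hd.2.2.symm hdy⟩
  obtain ⟨-, α, β, h2⟩ := h1
  rw [← add_smul] at h2
  exact H.ya (U.inj a ha y hy _ h2).symm

/-- type `T7` -/
theorem Four.not_isT7 (H : Four D x y a b) : ¬ IsT7 D := by
  rintro ⟨-, h, -⟩
  obtain ⟨-, h', -⟩ := h x H.hx
  have hy : y ∈ Loc D x := ⟨H.hy, H.xy.symm, H.cxy⟩
  have ha : a ∈ Loc D x := ⟨H.ha, H.xa.symm, H.cxa⟩
  obtain ⟨F, i1, i2, f, U⟩ := Cfsg.Agent.S0480U.UModel.exists_um (h' y hy)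
  have ha' : a ∈ Loc (Loc D x) y := ⟨ha, H.ya.symm, H.cya⟩
  obtain ⟨w, hw, hwa⟩ := Cfsg.Agent.S0480U.UModel.exists_not_commute U ha'
  exact hwa (H.da w hw.1.1 hw.1.2.2.symm hw.2.2.symm).symm

end

universe u

open Cfsg.Agent.Co2Type.Quad Cfsg.Agent.LargeExtra.WC Cfsg.Agent.LargeExtra.WCIrr Cfsg.Agent.LargeExtra.Wide

/-- a commuting pair in the weakly closed case is on a line -/
theorem exists_four {G : Type u} [Group G] [Finite G] [IsSimpleGroup G] (hG : ¬ IsMulCommutative G)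
    {P : Set G} {Q : G → Subgroup G} (hg : GeoN P Q) {z : G} (hz : z ∈ P) :
    ∃ x y a b : G, Four P x y a b := by
  have hz2 : orderOf z = 2 := orderOf_eq_prime (by rw [pow_two]; exact hg.sq hz) (hg.ne_one hz)
  obtain ⟨g, hg1, hg2⟩ := Cfsg.Agent.StandardComponent.AltFinal.exists_conj hG hz2
  have ht : g * z * g⁻¹ ∈ P := hg.conj_mem z hz g
  obtain ⟨r₁, r₂, r₃, h⟩ := hg.isL hz ht hg1.symm hg2.symm
  exact ⟨z, g * z * g⁻¹, r₁, r₂, hz, ht, h.h1, h.h2, h.pt, h.p1, h.t1, h.p2, h.t2, h.n12, h.cpt,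
    fun d hd h1 h2 => h.comm_line hg hd h1 h2, fun d hd h1 h2 => h.rot.comm_line hg hd h1 h2⟩

end Cfsg.Agent.Omega.Exit.Types

end
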